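import Groth.Agent.GrpOmega.Section
import Groth.Agent.CIntLib.QRegSection
import Groth.Agent.CIntLib.ClosedStalk
import Groth.Agent.KRRLib.ConormalRank
import Groth.Agent.RegLoc6.Basic
import Groth.Agent.CanonDual.TopDiff
import Groth.Agent.ExtPowBC.Basic
import Groth.Agent.S15539
import Groth.Agent.ConsPropLib.FibreLocFreeRank
import Groth.Agent.BunLib68.TF.Beta
import Groth.Prelude.Def_RegImm

/-!
# Sections of smooth morphisms are regular immersions
-/

set_option autoImplicit false
set_option linter.style.haveILetI false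
set_option backward.isDefEq.respectTransparency false
set_option backward.isDefEq.respectTransparency.types false

universe u

open CategoryTheory CategoryTheory.Limits AlgebraicGeometry TopologicalSpace

namespace Groth.Agent.GraphImm

variable {X P : Scheme.{u}} (p : P ⟶ X) (s : X ⟶ P)

/-- A section of a separated smooth morphism over a locally Noetherian scheme is regular. -/
theorem isRegularImmersionAt_section [IsLocallyNoetherian X] [Smooth p] [IsSeparated p] (hs : s ≫ p = 𝟙 X) (x : X) :
    RegImm.IsRegularImmersionAt .regular s x := by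
  haveI : IsLocallyNoetherian P := LocallyOfFiniteType.isLocallyNoetherian p
  haveI : IsClosedImmersion (s ≫ p) := by rw [hs]; infer_instance
  haveI : IsClosedImmersion s := IsClosedImmersion.of_comp s p
  obtain ⟨V, hxV, hreg⟩ := (CIntLib.mem_smoothLocus_iff_quasiRegular p s hs x).1 (by rw [p.smoothLocus_eq_top]; trivial)
  obtain ⟨U, hU, hxU, hci, n, fs, hfs, hker⟩ :=
    (AlgSpMor.isSeqAt_iff (k := .quasi) (Or.inr rfl) (V.ι ≫ s) ⟨x, hxV⟩).1 (hreg.2 ⟨x, hxV⟩)
  haveI := hci
  let O : P.Opens := ⟨(s '' (V : Set X)ᶜ)ᶜ, (s.isClosedEmbedding.isClosedMap _ V.2.isClosed_compl).isOpen_compl⟩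
  obtain ⟨g, hgO, hxg⟩ := hU.exists_basicOpen_le (V := U ⊓ O) ⟨s x, hxU, fun ⟨z, hz, he⟩ => hz (by
    rw [s.isClosedEmbedding.injective he]; exact hxV)⟩ hxU
  have hle : s ⁻¹ᵁ P.basicOpen g ≤ V := fun z hz => by
    by_contra hzV
    exact (hgO hz).2 ⟨z, hzV, rfl⟩
  obtain ⟨f', hf', hker'⟩ := AlgSpMor.seq_restrict_basicOpen (V.ι ≫ s) hU g hfs hker
  haveI : IsNoetherianRing Γ(P, P.basicOpen g) := IsLocallyNoetherian.component_noetherian ⟨_, hU.basicOpen g⟩
  haveI : IsClosedImmersion (s ∣_ P.basicOpen g) := MorphismProperty.of_isPullback (isPullback_morphismRestrict s _).flip inferInstance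
  have hk : RingHom.ker (s.app (P.basicOpen g)).hom = Ideal.ofList (List.ofFn f') := by
    refine Eq.trans ?_ (hker'.trans ?_)
    · haveI : IsIso (V.ι.app (s ⁻¹ᵁ P.basicOpen g)) := by
        refine Scheme.Hom.isIso_app _ _ ?_
        rw [Scheme.Opens.opensRange_ι]
        exact hle
      rw [Scheme.Hom.comp_app, CommRingCat.hom_comp, RingHom.ker_comp_of_injective]
      exact (ConcreteCategory.bijective_of_isIso _).1
    · show _ = Ideal.span {r | r ∈ List.ofFn f'}
      congr 1
      ext r
      simp [List.mem_ofFn]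
  obtain ⟨-, hVaff⟩ : True ∧ IsAffineOpen (s ⁻¹ᵁ P.basicOpen g) := ⟨trivial, (hU.basicOpen g).preimage s⟩
  exact KRegLib.regImmAt_of_kReg .regular s x (hU.basicOpen g) hxg
    (KRegLib.kReg_of_quasi _ _ (KRegLib.ker_app_le_primeIdealOf s (hU.basicOpen g) hVaff x hxg) (List.ofFn f')
      ((AlgSpMor.seq_ofFn_iff f').1.2 hf') hk)

/-- A section of a separated morphism, smooth of relative dimension `n`, is regular of codimension `n`. -/
theorem isRegularImmersionOfCodim_section [IsLocallyNoetherian X] (n : ℕ) [SmoothOfRelativeDimension n p]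
    [IsSeparated p] (hs : s ≫ p = 𝟙 X) : RegImm.IsRegularImmersionOfCodim .regular n s := by
  haveI : Smooth p := SmoothOfRelativeDimension.smooth n p
  haveI : IsLocallyNoetherian P := LocallyOfFiniteType.isLocallyNoetherian p
  haveI : IsClosedImmersion (s ≫ p) := by rw [hs]; infer_instance
  haveI : IsClosedImmersion s := IsClosedImmersion.of_comp s p
  obtain ⟨e⟩ := GrpOmega.nonempty_conormalIso p s (𝟙 X) (by rw [hs, Category.id_comp]) (by rw [Category.id_comp, hs])
  have hd : FlatMod.IsFinLocFreeOfRank n (Omega.conormal s) :=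
    (ConsPropLib.isFinLocFreeOfRank_iso e.symm).1
      (BunLib68.TF.isFinLocFreeOfRank_pullback s (CanonDual.isFinLocFreeOfRank_omega p n).1)
  refine ⟨inferInstance, fun x => ?_⟩
  obtain ⟨U, hxU, hci, rs, hrs, hker⟩ := isRegularImmersionAt_section p s hs x
  refine ⟨U, hxU, hci, rs, ?_, hrs, hker⟩
  letI : Algebra Γ(P, U.1) (P.presheaf.stalk (s x)) := (P.presheaf.germ U.1 _ hxU).hom.toAlgebra
  haveI : IsLocalization.AtPrime (P.presheaf.stalk (s x)) (U.2.primeIdealOf ⟨_, hxU⟩).asIdeal :=
    U.2.isLocalization_stalk ⟨_, hxU⟩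
  have hk := CIntLib.ker_stalkMap_eq_map_germ s x U hxU
  rw [Scheme.Hom.ker_apply, hker, Ideal.map_ofList] at hk
  have hw := RingTheory.Sequence.IsWeaklyRegular.of_isLocalization
    (P.presheaf.stalk (s x)) (U.2.primeIdealOf ⟨_, hxU⟩).asIdeal.primeCompl hrs.1
  simpa using KRRLib.length_eq_rank s n hd x _ hw hk

/-- The top exterior power of the conormal sheaf of a graph. -/
theorem isExtPow_conormal_graph {Y Z : Scheme.{u}} [IsLocallyNoetherian X] (f : X ⟶ Y) (g : Y ⟶ Z) (n : ℕ)
    [SmoothOfRelativeDimension n g] [IsSeparated g] (ωY : Y.Modules)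
    (hω : ExtPow.IsExtPow n (Omega.sheaf g) ωY) :
    ExtPow.IsExtPow n (Omega.conormal (pullback.lift (𝟙 X) f (Category.id_comp (f ≫ g))))
      ((Scheme.Modules.pullback f).obj ωY) := by
  let Γ' : X ⟶ pullback (f ≫ g) g := pullback.lift (𝟙 X) f (Category.id_comp (f ≫ g))
  let p := pullback.fst (f ≫ g) g
  let q := pullback.snd (f ≫ g) g
  have hs : Γ' ≫ p = 𝟙 X := pullback.lift_fst _ _ _
  haveI : SmoothOfRelativeDimension n p :=
    MorphismProperty.IsStableUnderBaseChange.of_isPullback
      (self := smoothOfRelativeDimension_isStableUnderBaseChange n)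
      (IsPullback.of_hasPullback (f ≫ g) g).flip inferInstance
  haveI : Smooth p := SmoothOfRelativeDimension.smooth n p
  haveI : IsClosedImmersion (Γ' ≫ p) := by rw [hs]; infer_instance
  haveI : IsClosedImmersion Γ' := IsClosedImmersion.of_comp Γ' p
  obtain ⟨e⟩ := GrpOmega.nonempty_conormalIso p Γ' (𝟙 X) (by rw [hs, Category.id_comp]) (by rw [Category.id_comp, hs])
  have h1 : ExtPow.IsExtPow n (Omega.sheaf p) ((Scheme.Modules.pullback q).obj ωY) :=
    S15539.result _ Z _ X g p q (f ≫ g) (IsPullback.of_hasPullback (f ≫ g) g).flip n ωY hω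
  have h2 := ExtPowBC.isExtPow_pullback Γ' (CanonDual.isFinLocFreeOfRank_omega p n).2 h1
  exact ExtPowBC.isExtPow_iso_right e.symm (ExtPowBC.isExtPow_iso_left
    ((Scheme.Modules.pullbackComp Γ' q).app ωY ≪≫
      (Scheme.Modules.pullbackCongr (pullback.lift_snd _ _ _)).app ωY) h2)

end Groth.Agent.GraphImm
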